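import Groth.Agent.Lib.GrpdThick19.Thick
import Groth.Agent.Lib.GrpdInv19.Basic
import Groth.Agent.Lib.GrpQuot.Restrict
import Mathlib.AlgebraicGeometry.Morphisms.QuasiSeparated
import Groth.Agent.Lib.QuasiFlat.Basic

/-!
# The finitely presented case
-/

set_option autoImplicit false
set_option linter.style.haveILetI false
set_option backward.isDefEq.respectTransparency.types false
universe u

open CategoryTheory CategoryTheory.Limits AlgebraicGeometry TopologicalSpace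

noncomputable section

namespace Groth.Agent.GrpdThick19

open Groth.Agent.GrpdB Groth.Agent.GrpQuot

variable {S : Scheme.{u}} (G : Grpd.GroupoidScheme S) [IsFinite G.s] [IsFinite G.t]
  [LocallyOfFinitePresentation G.s]

theorem fg_ideal (r : ℕ) (U : G.U.affineOpens) : ((Z G r).ideal U).FG := by
  letI := (G.s.app U.1).hom.toAlgebra
  haveI : Module.Finite Γ(G.U, U.1) Γ(G.R, G.s ⁻¹ᵁ U.1) := RingHom.finite_algebraMap.1 (G.s.finite_app U.1 U.2)
  haveI : Algebra.FinitePresentation Γ(G.U, U.1) Γ(G.R, G.s ⁻¹ᵁ U.1) := by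
    have h := HasRingHomProperty.appLE (P := @LocallyOfFinitePresentation) G.s ‹_› U
      ⟨_, U.2.preimage G.s⟩ le_rfl
    rw [← Scheme.Hom.app_eq_appLE] at h
    exact h
  haveI : Module.FinitePresentation Γ(G.U, U.1) Γ(G.R, G.s ⁻¹ᵁ U.1) :=
    Module.FinitePresentation.of_finite_of_finitePresentation _ _
  exact FittingLib.ideal_fg r

/-- A finitely generated ideal inside a minimal prime vanishes near it. -/
theorem exists_notMem_le_of_minimal {A : Type u} [CommRing A] {I : Ideal A} (hI : I.FG) {p : Ideal A}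
    (hp : p ∈ minimalPrimes A) (hle : I ≤ p) : ∃ s ∉ p, ∀ q : Ideal A, q.IsPrime → s ∉ q → I ≤ q := by
  classical
  haveI := hp.1.1
  obtain ⟨g, rfl⟩ := hI
  have : ∀ a ∈ g, ∃ s ∉ p, ∃ n, s * a ^ n = 0 := by
    intro a ha
    have hnil : IsNilpotent (algebraMap A (Localization.AtPrime p) a) := by
      rw [nilpotent_iff_mem_prime]
      intro Q hQ
      haveI := hQ
      have h1 : Q.comap (algebraMap A (Localization.AtPrime p)) ≤ p := by
        intro x hx
        by_contra hxp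
        exact hQ.ne_top (Ideal.eq_top_of_isUnit_mem _ hx
          (IsLocalization.map_units (Localization.AtPrime p) (⟨x, hxp⟩ : p.primeCompl)))
      exact (hp.2 ⟨inferInstance, bot_le⟩ h1) (hle (Ideal.subset_span ha))
    obtain ⟨n, hn⟩ := hnil
    rw [← map_pow, IsLocalization.map_eq_zero_iff p.primeCompl] at hn
    obtain ⟨s, hs⟩ := hn
    exact ⟨s, s.2, n, hs⟩
  choose s hs n hn using this
  refine ⟨∏ a ∈ g.attach, s a.1 a.2, fun h => ?_, fun q hq hsq => Ideal.span_le.2 fun a ha => ?_⟩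
  · obtain ⟨a, -, ha⟩ := (Ideal.IsPrime.prod_mem_iff (p := p)).1 h
    exact hs _ _ ha
  · have h1 : s a ha * a ^ n a ha ∈ q := by rw [hn a ha]; exact q.zero_mem
    rcases hq.mem_or_mem h1 with h2 | h2
    · exact absurd (q.mem_of_dvd (Finset.dvd_prod_of_mem (fun x : g => s x.1 x.2) (Finset.mem_attach g ⟨a, ha⟩)) h2) hsq
    · exact hq.mem_of_pow_mem _ h2

/-- Points without proper generizations lie in the union of the strata. -/
theorem mem_strata {x : G.U} (hx : ∀ y : G.U, y ⤳ x → y = x) : x ∈ ⨆ r, stratum G r := by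
  classical
  obtain ⟨m, hm⟩ := GrpdFit19.exists_notMem_support G.s x
  have hex : ∃ r, x ∉ (Z G r).support := ⟨m, hm⟩
  obtain ⟨k, hk⟩ : ∃ k, Nat.find hex = k + 1 :=
    Nat.exists_eq_succ_of_ne_zero fun h0 => (h0 ▸ Nat.find_spec hex) (mem_support_zero G x)
  have h1 : x ∉ (Z G (k + 1)).support := hk ▸ Nat.find_spec hex
  have h0 : x ∈ (Z G k).support := by
    by_contra h
    exact Nat.find_min hex (show k < Nat.find hex by omega) h
  refine Opens.mem_iSup.2 ⟨k, ⟨?_, h1⟩⟩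
  obtain ⟨V, hV, hxV, -⟩ := exists_isAffineOpen_mem_and_subset (x := x) (U := ⊤) trivial
  let p := hV.primeIdealOf ⟨x, hxV⟩
  have hmem : ∀ (z : G.U) (hz : z ∈ V),
      z ∈ (Z G k).support ↔ (Z G k).ideal ⟨V, hV⟩ ≤ (hV.primeIdealOf ⟨z, hz⟩).asIdeal := by
    intro z hz
    rw [Scheme.IdealSheafData.mem_support_iff_of_mem (U := ⟨V, hV⟩) hz, Scheme.mem_zeroLocus_iff]
    refine ⟨fun h a ha => ?_, fun h a ha => ?_⟩
    · by_contra hn
      refine h a ha ?_
      have : hV.primeIdealOf ⟨z, hz⟩ ∈ hV.fromSpec ⁻¹ᵁ G.U.basicOpen a := by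
        rw [hV.fromSpec_preimage_basicOpen]; exact hn
      have h2 : hV.fromSpec (hV.primeIdealOf ⟨z, hz⟩) ∈ G.U.basicOpen a := this
      rwa [hV.fromSpec_primeIdealOf] at h2
    · intro hz'
      have h2 : hV.primeIdealOf ⟨z, hz⟩ ∈ hV.fromSpec ⁻¹ᵁ G.U.basicOpen a := by
        show hV.fromSpec (hV.primeIdealOf ⟨z, hz⟩) ∈ G.U.basicOpen a
        rw [hV.fromSpec_primeIdealOf]; exact hz'
      rw [hV.fromSpec_preimage_basicOpen] at h2
      exact h2 (h ha)
  have hpmin : p.asIdeal ∈ minimalPrimes Γ(G.U, V) := by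
    refine ⟨⟨p.isPrime, bot_le⟩, fun q hq hle => ?_⟩
    have hs : hV.fromSpec ⟨q, hq.1⟩ ⤳ hV.fromSpec p :=
      ((PrimeSpectrum.le_iff_specializes ⟨q, hq.1⟩ p).1 hle).map hV.fromSpec.continuous
    rw [hV.fromSpec_primeIdealOf] at hs
    exact (congrArg PrimeSpectrum.asIdeal (hV.fromSpec.isOpenEmbedding.injective
      (a₁ := ⟨q, hq.1⟩) (a₂ := p) ((hx _ hs).trans (hV.fromSpec_primeIdealOf ⟨x, hxV⟩).symm))).ge
  obtain ⟨s, hs, hsq⟩ := exists_notMem_le_of_minimal (fg_ideal G k ⟨V, hV⟩) hpmin ((hmem x hxV).1 h0)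
  refine mem_interior.2 ⟨G.U.basicOpen s, fun z hz => ?_, (G.U.basicOpen s).2, ?_⟩
  · have hzV : z ∈ V := G.U.basicOpen_le s hz
    refine (hmem z hzV).2 (hsq _ inferInstance ?_)
    have h2 : hV.primeIdealOf ⟨z, hzV⟩ ∈ hV.fromSpec ⁻¹ᵁ G.U.basicOpen s := by
      show hV.fromSpec (hV.primeIdealOf ⟨z, hzV⟩) ∈ G.U.basicOpen s
      rw [hV.fromSpec_primeIdealOf]; exact hz
    rw [hV.fromSpec_preimage_basicOpen] at h2
    exact h2
  · have : p ∈ hV.fromSpec ⁻¹ᵁ G.U.basicOpen s := by rw [hV.fromSpec_preimage_basicOpen]; exact hs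
    have h2 : hV.fromSpec p ∈ G.U.basicOpen s := this
    rwa [hV.fromSpec_primeIdealOf] at h2

theorem mem_good {u : G.U} (hu : ∀ r : G.R, G.s r = u → ∀ x : G.U, x ⤳ G.t r → x = G.t r) : u ∈ good G :=
  mem_core.2 fun r hr => mem_strata G fun x hx => by
    have h := hu (G.i r) (by rw [s_i, hr]) x (by rw [t_i]; exact hx)
    rwa [t_i] at h

variable {G}

theorem IsThick.locallyOfFinitePresentation {W : G.U.Opens} (hle : W ≤ ⨆ r, stratum G r)
    {W' : W.toScheme.IdealSheafData} (h : IsThick G W') : LocallyOfFinitePresentation W'.subschemeι := by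
  refine IsZariskiLocalAtTarget.of_iSup_eq_top (P := @LocallyOfFinitePresentation) _ (piece_cover G hle)
    fun r => ?_
  haveI : LocallyOfFinitePresentation (Z G r.down).subschemeι :=
    LimH13.locallyOfFinitePresentation_subschemeι fun U => fg_ideal G r.down U
  have hker : (pullback.fst (piece G W r).ι W'.subschemeι).ker =
      (pullback.fst ((piece G W r).ι ≫ W.ι) (Z G r.down).subschemeι).ker := by
    rw [Scheme.IdealSheafData.ker_fst_of_isClosedImmersion, Scheme.IdealSheafData.ker_fst_of_isClosedImmersion,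
      Scheme.IdealSheafData.ker_subschemeι, Scheme.IdealSheafData.ker_subschemeι, h.eq]
  have H := (IsPullback.of_hasPullback ((piece G W r).ι ≫ W.ι) (Z G r.down).subschemeι)
  let a := IsClosedImmersion.lift (pullback.fst ((piece G W r).ι ≫ W.ι) (Z G r.down).subschemeι)
    (pullback.fst (piece G W r).ι W'.subschemeι) hker.ge
  have ha : a ≫ pullback.fst _ _ = pullback.fst (piece G W r).ι W'.subschemeι := IsClosedImmersion.lift_fac _ _ _
  haveI : IsIso a := IsClosedImmersion.isIso_of_ker_eq _ _ a ha hker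
  haveI : LocallyOfFinitePresentation (pullback.fst ((piece G W r).ι ≫ W.ι) (Z G r.down).subschemeι) :=
    MorphismProperty.pullback_fst _ _ inferInstance
  have h3 : LocallyOfFinitePresentation (pullback.fst (piece G W r).ι W'.subschemeι) := by
    rw [← ha]; infer_instance
  have h4 := (isPullback_morphismRestrict W'.subschemeι (piece G W r))
  rw [← h4.isoPullback_hom_fst]
  haveI := h3
  infer_instance

section affine

omit [IsFinite G.s] [IsFinite G.t] [LocallyOfFinitePresentation G.s] in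
/-- Finitely many points without proper generizations in a quasi-separated scheme lie in an affine open. -/
theorem exists_affine_maximal {X : Scheme.{u}} [QuasiSeparatedSpace X] {P : Set X} (hP : P.Finite) (O : X.Opens)
    (hPO : P ⊆ O) (hmax : ∀ p ∈ P, ∀ x : X, x ⤳ p → x = p) :
    ∃ U : X.Opens, IsAffineOpen U ∧ P ⊆ U ∧ U ≤ O := by
  induction P, hP using Set.Finite.induction_on with
  | empty => exact ⟨⊥, isAffineOpen_bot X, Set.empty_subset _, bot_le⟩
  | @insert z T _ hTfin ih =>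
    obtain ⟨U, hU, hTU, hUO⟩ := ih (fun x hx => hPO (Or.inr hx)) fun p hp => hmax p (Or.inr hp)
    by_cases hz : z ∈ U
    · exact ⟨U, hU, Set.insert_subset hz hTU, hUO⟩
    obtain ⟨V, hV, hzV, hVO⟩ := exists_isAffineOpen_mem_and_subset (x := z) (U := O) (hPO (Or.inl rfl))
    have hzC : z ∉ closure ((U : Set X) ∩ V) := by
      intro hcl
      have hqc : IsCompact ((U : Set X) ∩ V) :=
        hU.isCompact.inter_of_isOpen hV.isCompact U.2 V.2
      haveI : QuasiCompact (U ⊓ V).ι := ⟨fun Ω _ hΩc => (U ⊓ V).ι.isOpenEmbedding.isEmbedding.isCompact_iff.2 (by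
        rw [Set.image_preimage_eq_inter_range, Scheme.Opens.range_ι]
        exact hΩc.inter_of_isOpen hqc ‹_› (U ⊓ V).2)⟩
      obtain ⟨y, hyz⟩ := QF.exists_specializes_of_mem_closure (U ⊓ V).ι (z := z)
        (by erw [Scheme.Opens.range_ι]; exact hcl)
      exact hz (hmax z (Or.inl rfl) _ hyz ▸ (y.2).1)
    obtain ⟨V', hV', hzV', hV'le⟩ := exists_isAffineOpen_mem_and_subset (x := z)
      (U := V ⊓ ⟨_, isClosed_closure.isOpen_compl⟩) ⟨hzV, hzC⟩
    have hdisj : Disjoint U V' := by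
      rw [disjoint_iff]
      exact le_bot_iff.1 fun x hx => ((hV'le hx.2).2 (subset_closure ⟨hx.1, (hV'le hx.2).1⟩)).elim
    refine ⟨U ⊔ V', hU.sup_of_disjoint hV' hdisj, Set.insert_subset (Or.inr hzV') fun x hx => Or.inl (hTU hx),
      sup_le hUO fun x hx => hVO (hV'le hx).1⟩

end affine

variable (G)

/-- An invariant affine open inside the good open around points with generic orbits. -/
theorem exists_affine [LocallyOfFinitePresentation G.t] [QuasiSeparatedSpace G.U] (m : ℕ) (u : Fin m → G.U)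
    (hu : ∀ i (r : G.R), G.s r = u i → ∀ x : G.U, x ⤳ G.t r → x = G.t r) :
    ∃ V : G.U.Opens, IsAffineOpen V ∧ (∀ i, u i ∈ V) ∧ G.s ⁻¹ᵁ V = G.t ⁻¹ᵁ V ∧ V ≤ ⨆ r, stratum G r := by
  let P : Set G.U := ⋃ i, G.t '' (G.s ⁻¹' {u i})
  have hmax : ∀ p ∈ P, ∀ x : G.U, x ⤳ p → x = p := by
    intro p hp x hx
    obtain ⟨i, r, hr, rfl⟩ := Set.mem_iUnion.1 hp
    exact hu i r hr x hx
  obtain ⟨A₀, hA₀, hPA, hAle⟩ := exists_affine_maximal (Set.finite_iUnion fun i => finite_orbit (u i))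
    (⨆ r, stratum G r) (fun p hp => mem_strata G (hmax p hp)) hmax
  let O : G.U.Opens := ⟨core G A₀, isOpen_core A₀.2⟩
  have hO : G.s ⁻¹ᵁ O = G.t ⁻¹ᵁ O := Opens.ext (core_invariant _)
  have hOA : O ≤ A₀ := core_subset _
  have huO : ∀ i, u i ∈ O := fun i => mem_core.2 fun r hr => by
    refine hPA (Set.mem_iUnion.2 ⟨i, G.i r, ?_, t_i r⟩)
    show G.s (G.i r) = u i
    rw [s_i, hr]
  have e : tO G O hO = (G.R.isoOfEq hO).hom ≫ (G.t ∣_ O) := by
    rw [← cancel_mono O.ι, Category.assoc, morphismRestrict_ι, tO_ι G O hO, Scheme.isoOfEq_hom_ι_assoc]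
  haveI : IsFinite (restr G O hO).t := by
    haveI : IsFinite (G.t ∣_ O) := IsZariskiLocalAtTarget.restrict ‹IsFinite G.t› O
    show IsFinite (tO G O hO)
    rw [e]; exact MorphismProperty.comp_mem _ _ _ inferInstance inferInstance
  haveI : LocallyOfFinitePresentation (restr G O hO).t := by
    haveI : LocallyOfFinitePresentation (G.t ∣_ O) := IsZariskiLocalAtTarget.restrict ‹_› O
    show LocallyOfFinitePresentation (tO G O hO)
    rw [e]; exact MorphismProperty.comp_mem _ _ _ inferInstance inferInstance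
  let A := Γ(G.U, A₀)
  let j : (restr G O hO).U ⟶ Spec (CommRingCat.of A) := G.U.homOfLE hOA ≫ hA₀.isoSpec.hom
  haveI : IsOpenImmersion j := inferInstanceAs (IsOpenImmersion (G.U.homOfLE hOA ≫ hA₀.isoSpec.hom))
  obtain ⟨I, hI⟩ := (PrimeSpectrum.isClosed_iff_zeroLocus_ideal _).1
    (show IsClosed ((Set.range j)ᶜ : Set (PrimeSpectrum A)) from j.isOpenEmbedding.isOpen_range.isClosed_compl)
  haveI : IsImmersion j := inferInstanceAs (IsImmersion (G.U.homOfLE hOA ≫ hA₀.isoSpec.hom))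
  obtain ⟨h, -, hh1, hh2, hh3⟩ := GrpdInv19.exists_invariant (restr G O hO) m (fun i => ⟨u i, huO i⟩)
    (fun i r hr x hx => by
      have h1 : G.s ((G.s ⁻¹ᵁ O).ι r) = u i :=
        (congrArg (fun q : (G.s ⁻¹ᵁ O).toScheme ⟶ G.U => q r) (sO_ι G O)).symm.trans (congrArg O.ι hr)
      have h2 : O.ι (tO G O hO r) = G.t ((G.s ⁻¹ᵁ O).ι r) :=
        congrArg (fun q : (G.s ⁻¹ᵁ O).toScheme ⟶ G.U => q r) (tO_ι G O hO)
      have hx' : (x : O.toScheme) ⤳ tO G O hO r := hx
      have h3 : O.ι x ⤳ G.t ((G.s ⁻¹ᵁ O).ι r) := h2 ▸ hx'.map O.ι.continuous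
      exact O.ι.isOpenEmbedding.injective ((hu i _ h1 _ h3).trans h2.symm))
    A j I (fun x hx => (hI.ge hx : j x ∈ (Set.range j : Set (PrimeSpectrum A))ᶜ) ⟨x, rfl⟩)
    (by
      rw [← hI]
      convert isClosed_univ
      exact Set.compl_union_self _)
  set V₀ : O.toScheme.Opens := j ⁻¹ᵁ (PrimeSpectrum.basicOpen h : (Spec (CommRingCat.of A)).Opens)
  refine ⟨O.ι ''ᵁ V₀, (show IsAffineOpen (X := O.toScheme) V₀ from hh1).image_of_isOpenImmersion O.ι, fun i => ⟨⟨u i, huO i⟩, hh2 i, rfl⟩, ?_,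
    ((Scheme.Hom.image_le_opensRange _ _).trans (le_of_eq (Scheme.Opens.opensRange_ι O))).trans (hOA.trans hAle)⟩
  have key : ∀ y : (G.s ⁻¹ᵁ O).toScheme, (restr G O hO).s y ∈ V₀ ↔ (restr G O hO).t y ∈ V₀ := fun y =>
    SetLike.ext_iff.1 hh3 y
  refine Opens.ext (Set.ext fun r => ⟨fun hr => ?_, fun hr => ?_⟩)
  · obtain ⟨x, hx, hxr⟩ := hr
    have hrO : G.s r ∈ O := hxr ▸ x.2
    refine ⟨(restr G O hO).t ⟨r, hrO⟩, (key ⟨r, hrO⟩).1 ?_, ?_⟩
    · have : (restr G O hO).s ⟨r, hrO⟩ = x := O.ι.isOpenEmbedding.injective ((congrArg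
        (fun q : (G.s ⁻¹ᵁ O).toScheme ⟶ G.U => q ⟨r, hrO⟩) (sO_ι G O)).trans hxr.symm)
      rw [this]; exact hx
    · exact congrArg (fun q : (G.s ⁻¹ᵁ O).toScheme ⟶ G.U => q ⟨r, hrO⟩) (tO_ι G O hO)
  · obtain ⟨x, hx, hxr⟩ := hr
    have hrO : G.s r ∈ O := hO.ge (show G.t r ∈ O from hxr ▸ x.2)
    refine ⟨(restr G O hO).s ⟨r, hrO⟩, (key ⟨r, hrO⟩).2 ?_, ?_⟩
    · have : (restr G O hO).t ⟨r, hrO⟩ = x := O.ι.isOpenEmbedding.injective ((congrArg
        (fun q : (G.s ⁻¹ᵁ O).toScheme ⟶ G.U => q ⟨r, hrO⟩) (tO_ι G O hO)).trans hxr.symm)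
      rw [this]; exact hx
    · exact congrArg (fun q : (G.s ⁻¹ᵁ O).toScheme ⟶ G.U => q ⟨r, hrO⟩) (sO_ι G O)

end Groth.Agent.GrpdThick19
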