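import Groth.Agent.Lib.GrpQuot.SubDescFam
import Groth.Agent.Lib.EffCartier.Comap

/-!
# Ideal sheaves prescribed on a disjoint open cover
-/

set_option autoImplicit false
set_option linter.style.haveILetI false
set_option backward.isDefEq.respectTransparency.types false
universe u

open CategoryTheory CategoryTheory.Limits AlgebraicGeometry TopologicalSpace

namespace Groth.Agent.GrpdThick19

variable {X : Scheme.{u}} {κ : Type u} (P : κ → X.Opens) (hd : ∀ i j, i ≠ j → Disjoint (P i) (P j))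
  (hc : ⨆ i, P i = ⊤)

theorem comap_homOfLE {Y : Scheme.{u}} {U V : Y.Opens} (e : U ≤ V) (I : Y.IdealSheafData) :
    (I.comap V.ι).comap (Y.homOfLE e) = I.comap U.ι := by
  rw [← Scheme.IdealSheafData.comap_comp, Scheme.homOfLE_ι]

include hc in
/-- Two ideal sheaves agreeing on all the pieces agree. -/
theorem ext_of_pieces {I J : X.IdealSheafData} (h : ∀ i, I.comap (P i).ι = J.comap (P i).ι) : I = J :=
  GrpQuot.SubDesc.ext_openCover (Scheme.openCoverOfIsOpenCover X P hc) h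

include hd in
theorem exists_on_finite {ι' : Type u} [Finite ι'] (σ : ι' → κ) (hσ : Function.Injective σ)
    (hcov : ∀ i, i ∉ Set.range σ → P i = ⊥) (hc' : ⨆ k, P (σ k) = ⊤) [CompactSpace X] [QuasiSeparatedSpace X]
    (hqc : ∀ k, IsCompact (P (σ k) : Set X))
    (I : ∀ i, (P i).toScheme.IdealSheafData) : ∃ K : X.IdealSheafData, ∀ i, K.comap (P i).ι = I i := by
  haveI : ∀ k, QuasiCompact (P (σ k)).ι := fun k => by
    haveI : CompactSpace (P (σ k)).toScheme := isCompact_iff_compactSpace.1 (hqc k)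
    exact quasiCompact_of_compactSpace _
  refine ⟨⨅ k, (I (σ k)).map (P (σ k)).ι, fun i => ?_⟩
  by_cases hi : i ∈ Set.range σ
  · obtain ⟨k, rfl⟩ := hi
    rw [GrpQuot.SubDesc.comap_iInf]
    refine le_antisymm ((iInf_le _ k).trans (GrpQuot.SubDesc.comap_map_of_mono _ _).le) (le_iInf fun l => ?_)
    by_cases hl : l = k
    · subst hl; exact (GrpQuot.SubDesc.comap_map_of_mono _ _).ge
    · have htop : ((I (σ l)).map (P (σ l)).ι).comap (P (σ k)).ι = ⊤ := by
        rw [← Scheme.IdealSheafData.support_eq_bot_iff, Scheme.IdealSheafData.support_comap,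
          ← SetLike.coe_set_eq, Closeds.coe_bot, Closeds.coe_preimage, Set.eq_empty_iff_forall_notMem]
        intro x hx
        have h1 : (P (σ k)).ι x ∈ ((I (σ l)).map (P (σ l)).ι).support := hx
        have hsub : (((I (σ l)).map (P (σ l)).ι).support : Set X) ⊆ closure (P (σ l) : Set X) := by
          rw [Scheme.IdealSheafData.map, Scheme.Hom.support_ker]
          refine closure_mono ?_
          rintro _ ⟨z, rfl⟩
          rw [Scheme.Hom.comp_apply]
          exact ((I (σ l)).subschemeι z).2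
        obtain ⟨y, hy1, hy2⟩ := mem_closure_iff.1 (hsub h1) _ (P (σ k)).2 x.2
        exact (hd (σ k) (σ l) fun e => hl (hσ e).symm).le_bot ⟨hy1, hy2⟩
      rw [htop]
      exact le_top
  · refine GrpQuot.SubDesc.ext_openCover (Scheme.openCoverOfIsOpenCover _ (fun _ : PEmpty.{1} => ⊥) ?_) fun e => e.elim
    refine eq_top_iff.2 fun x _ => ?_
    have h : x.1 ∈ P i := x.2
    exact ((hcov i hi).le h : x.1 ∈ (⊥ : X.Opens)).elim

include hd hc in
/-- Gluing along a disjoint open cover. -/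
theorem exists_glue_pieces (I : ∀ i, (P i).toScheme.IdealSheafData) :
    ∃ K : X.IdealSheafData, ∀ i, K.comap (P i).ι = I i := by
  classical
  have key : ∀ U : X.affineOpens, ∃ K : U.1.toScheme.IdealSheafData, ∀ i,
      K.comap (U.1.ι ⁻¹ᵁ P i).ι = (I i).comap (U.1.ι ∣_ P i) := by
    intro U
    haveI : IsAffine U.1.toScheme := U.2
    let Q : κ → U.1.toScheme.Opens := fun i => U.1.ι ⁻¹ᵁ P i
    have hQd : ∀ i j, i ≠ j → Disjoint (Q i) (Q j) := fun i j h => by
      rw [disjoint_iff]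
      exact le_bot_iff.1 fun x hx => ((hd i j h).le_bot hx).elim
    have hQc : ⨆ i, Q i = ⊤ := by
      rw [← Scheme.Hom.preimage_iSup, hc, Scheme.Hom.preimage_top]
    obtain ⟨s, hs⟩ := (isCompact_univ (X := U.1.toScheme)).elim_finite_subcover (fun i => (Q i : Set U.1.toScheme))
      (fun i => (Q i).2) (fun x _ => Set.mem_iUnion.2 (Opens.mem_iSup.1 (hQc.ge (Opens.mem_top x))))
    refine exists_on_finite Q hQd (fun k : s => k.1) Subtype.val_injective (fun i hi => ?_) ?_ (fun k => ?_) _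
    · refine le_bot_iff.1 fun x hx => ?_
      obtain ⟨j, hj, hxj⟩ := Set.mem_iUnion₂.1 (hs (Set.mem_univ x))
      have hne : i ≠ j := fun e => hi ⟨⟨j, hj⟩, e.symm⟩
      exact (hQd i j hne).le_bot ⟨hx, hxj⟩
    · refine eq_top_iff.2 fun x _ => ?_
      obtain ⟨j, hj, hxj⟩ := Set.mem_iUnion₂.1 (hs (Set.mem_univ x))
      exact Opens.mem_iSup.2 ⟨⟨j, hj⟩, hxj⟩
    · refine IsClosed.isCompact (isOpen_compl_iff.1 ?_)
      have e : ((Q k.1 : Set U.1.toScheme))ᶜ = ⋃ j ∈ {j | j ≠ k.1}, (Q j : Set U.1.toScheme) := by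
        ext x
        simp only [Set.mem_compl_iff, Set.mem_iUnion, Set.mem_setOf_eq, exists_prop, SetLike.mem_coe]
        constructor
        · intro hx
          obtain ⟨j, hj⟩ := Opens.mem_iSup.1 (hQc.ge (Opens.mem_top x))
          exact ⟨j, fun e => hx (e ▸ hj), hj⟩
        · rintro ⟨j, hj, hxj⟩ hx
          exact (hQd j k.1 hj).le_bot ⟨hxj, hx⟩
      rw [e]
      exact isOpen_biUnion fun j _ => (Q j).2
  choose K hK using key
  obtain ⟨L, hL⟩ := GrpQuot.SubDesc.exists_glue K fun U V e => by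
    refine ext_of_pieces (fun i => U.1.ι ⁻¹ᵁ P i) (by rw [← Scheme.Hom.preimage_iSup, hc, Scheme.Hom.preimage_top]) fun i => ?_
    have hpre : U.1.ι ⁻¹ᵁ P i = X.homOfLE e ⁻¹ᵁ (V.1.ι ⁻¹ᵁ P i) := by
      rw [← Scheme.Hom.comp_preimage, Scheme.homOfLE_ι]
    let g := (X.homOfLE e).resLE (V.1.ι ⁻¹ᵁ P i) (U.1.ι ⁻¹ᵁ P i) hpre.le
    rw [← Scheme.IdealSheafData.comap_comp, ← Scheme.Hom.resLE_comp_ι (X.homOfLE e) hpre.le,
      Scheme.IdealSheafData.comap_comp, hK V i, hK U i, ← Scheme.IdealSheafData.comap_comp]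
    congr 1
    rw [← cancel_mono (P i).ι, Category.assoc, morphismRestrict_ι, morphismRestrict_ι,
      Scheme.Hom.resLE_comp_ι_assoc, Scheme.homOfLE_ι]
  refine ⟨L, fun i => ?_⟩
  refine GrpQuot.SubDesc.ext_openCover
    (Scheme.openCoverOfIsOpenCover _ (fun U : X.affineOpens => (P i).ι ⁻¹ᵁ U.1) ?_) fun U => ?_
  · show ⨆ U : X.affineOpens, (P i).ι ⁻¹ᵁ U.1 = ⊤
    rw [← Scheme.Hom.preimage_iSup, iSup_affineOpens_eq_top, Scheme.Hom.preimage_top]
  · show (L.comap (P i).ι).comap ((P i).ι ⁻¹ᵁ U.1).ι = (I i).comap ((P i).ι ⁻¹ᵁ U.1).ι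
    let g : ((P i).ι ⁻¹ᵁ U.1).toScheme ⟶ (U.1.ι ⁻¹ᵁ P i).toScheme :=
      IsOpenImmersion.lift (U.1.ι ⁻¹ᵁ P i).ι ((P i).ι ∣_ U.1) (by
        rintro _ ⟨z, rfl⟩
        rw [Scheme.Opens.range_ι]
        show U.1.ι (((P i).ι ∣_ U.1) z) ∈ P i
        rw [← Scheme.Hom.comp_apply, morphismRestrict_ι, Scheme.Hom.comp_apply]
        exact (((P i).ι ⁻¹ᵁ U.1).ι z).2)
    have h1 : ((P i).ι ⁻¹ᵁ U.1).ι ≫ (P i).ι = (g ≫ (U.1.ι ⁻¹ᵁ P i).ι) ≫ U.1.ι := by
      rw [IsOpenImmersion.lift_fac, morphismRestrict_ι]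
    have h2 : g ≫ (U.1.ι ∣_ P i) = ((P i).ι ⁻¹ᵁ U.1).ι := by
      rw [← cancel_mono (P i).ι, Category.assoc, morphismRestrict_ι, h1, Category.assoc]
    rw [← Scheme.IdealSheafData.comap_comp, h1, Scheme.IdealSheafData.comap_comp,
      Scheme.IdealSheafData.comap_comp, hL U, hK U i, ← Scheme.IdealSheafData.comap_comp, h2]

end Groth.Agent.GrpdThick19
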