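import Groth.Agent.Lib.GrpdThick19.Glue
import Groth.Agent.Lib.GrpdFit19.Basic
import Groth.Agent.Lib.GrpQuot.Rank
import Groth.Agent.Lib.GrpQuot.Invariant
import Groth.Agent.Lib.GrpQuot.Affine
import Groth.Agent.Lib.Fitting.More
import Groth.Agent.Lib.LimH13.IdealSys

/-!
# Invariant thickenings on which a finite groupoid is finite locally free
-/

set_option autoImplicit false
set_option linter.style.haveILetI false
set_option backward.isDefEq.respectTransparency.types false
universe u

open CategoryTheory CategoryTheory.Limits AlgebraicGeometry TopologicalSpace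

noncomputable section

namespace Groth.Agent.GrpdThick19

open Groth.Agent.GrpdB Groth.Agent.GrpQuot

variable {S : Scheme.{u}} (G : Grpd.GroupoidScheme S) [IsFinite G.s] [IsFinite G.t]

/-- The points where at least `r + 1` arrows start. -/
abbrev Z (r : ℕ) : G.U.IdealSheafData := GrpdFit19.fit G.s r

theorem comap_s_eq (r : ℕ) : (Z G r).comap G.s = (Z G r).comap G.t :=
  (GrpdFit19.comap_fit G.s (isPullback_shear G) r).trans
    (GrpdFit19.comap_fit G.s (IsPullback.of_hasPullback G.s G.t) r).symm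

theorem mem_support_iff (r : ℕ) (x : G.R) : G.s x ∈ (Z G r).support ↔ G.t x ∈ (Z G r).support := by
  have h : ((Z G r).comap G.s).support = ((Z G r).comap G.t).support := by rw [comap_s_eq]
  rw [Scheme.IdealSheafData.support_comap, Scheme.IdealSheafData.support_comap] at h
  exact Set.ext_iff.1 (congrArg (fun c : Closeds G.R => (c : Set G.R)) h) x

theorem mem_support_mono {r k : ℕ} (h : r ≤ k) {u : G.U} (hu : u ∈ (Z G k).support) : u ∈ (Z G r).support :=
  Scheme.IdealSheafData.support_antitone (GrpdFit19.fit_mono G.s h) hu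

theorem mem_support_zero (u : G.U) : u ∈ (Z G 0).support := by
  show u ∈ (GrpdFit19.fit G.s 0).support
  rw [GrpdFit19.fit_zero_of_section G.s G.e G.e_s, Scheme.IdealSheafData.support_bot]
  trivial

/-- The interior of a stratum. -/
def stratum (r : ℕ) : G.U.Opens :=
  ⟨interior ((Z G r).support : Set G.U) ∩ ((Z G (r + 1)).support : Set G.U)ᶜ,
    isOpen_interior.inter (Z G (r + 1)).support.2.isOpen_compl⟩

theorem stratum_disjoint {r k : ℕ} (h : r ≠ k) : Disjoint (stratum G r) (stratum G k) := by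
  rw [disjoint_iff]
  refine le_bot_iff.1 fun x hx => ?_
  rcases lt_or_gt_of_ne h with h | h
  · exact (hx.1.2 (mem_support_mono G h (interior_subset hx.2.1))).elim
  · exact (hx.2.2 (mem_support_mono G h (interior_subset hx.1.1))).elim

theorem stratum_unique {r k : ℕ} {u : G.U} (hr : u ∈ stratum G r) (h1 : u ∈ (Z G k).support)
    (h2 : u ∉ (Z G (k + 1)).support) : r = k := by
  by_contra h
  rcases lt_or_gt_of_ne h with h | h
  · exact hr.2 (mem_support_mono G h h1)
  · exact h2 (mem_support_mono G h (interior_subset hr.1))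

/-- The largest invariant open where the number of arrows is locally constant. -/
def good : G.U.Opens := ⟨core G ((⨆ r, stratum G r : G.U.Opens) : Set G.U), isOpen_core (⨆ r, stratum G r).2⟩

theorem good_le : good G ≤ ⨆ r, stratum G r := core_subset _

theorem good_invariant : G.s ⁻¹ᵁ good G = G.t ⁻¹ᵁ good G := Opens.ext (core_invariant _)

/-- Every orbit meets the closure of the good open. -/
theorem exists_mem_closure (u : G.U) : ∃ r : G.R, G.t r = u ∧ G.s r ∈ closure (good G : Set G.U) := by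
  classical
  by_contra hu
  let C : Set G.U := G.t '' (G.s ⁻¹' closure (good G : Set G.U))
  have hC : IsClosed C := G.t.isClosedMap _ (isClosed_closure.preimage G.s.continuous)
  have hCinv : ∀ x : G.R, G.t x ∉ C → G.s x ∉ C := fun x hx hs =>
    hx ((Set.ext_iff.1 (saturation_invariant (closure (good G : Set G.U))) x).1 hs)
  have hex : ∃ r, ∃ v ∉ C, v ∉ (Z G r).support := by
    obtain ⟨r, hr⟩ := GrpdFit19.exists_notMem_support G.s u
    exact ⟨r, u, fun ⟨x, hx, hxu⟩ => hu ⟨x, hxu, hx⟩, hr⟩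
  obtain ⟨v, hvC, hv⟩ := Nat.find_spec hex
  obtain ⟨k, hk⟩ : ∃ k, Nat.find hex = k + 1 :=
    Nat.exists_eq_succ_of_ne_zero fun h0 => hv (h0 ▸ mem_support_zero G v)
  rw [hk] at hv
  have hD : ∀ w, w ∉ C → w ∈ (Z G k).support := fun w hw => by
    by_contra h
    exact Nat.find_min hex (show k < Nat.find hex by omega) ⟨w, hw, h⟩
  have hmem : v ∈ good G := mem_core.2 fun x hx => Opens.mem_iSup.2 ⟨k, by
    have hs : G.s x ∉ C := hCinv x (hx ▸ hvC)
    refine ⟨mem_interior.2 ⟨Cᶜ, hD, hC.isOpen_compl, hs⟩, fun h => hv ?_⟩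
    exact hx ▸ (mem_support_iff G (k + 1) x).1 h⟩
  exact hvC (subset_saturation _ (subset_closure hmem))

variable {W : G.U.Opens} (hW : G.s ⁻¹ᵁ W = G.t ⁻¹ᵁ W) (hle : W ≤ ⨆ r, stratum G r)

/-- The strata inside `W`. -/
abbrev piece (W : G.U.Opens) (r : ULift.{u} ℕ) : W.toScheme.Opens := W.ι ⁻¹ᵁ stratum G r.down

include hle in
theorem piece_cover : ⨆ r, piece G W r = ⊤ := by
  refine eq_top_iff.2 fun x _ => ?_
  obtain ⟨r, hr⟩ := Opens.mem_iSup.1 (hle x.2)
  exact Opens.mem_iSup.2 ⟨⟨r⟩, hr⟩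

/-- The thickening cut out on each stratum by its Fitting ideal. -/
structure IsThick (W' : W.toScheme.IdealSheafData) : Prop where
  eq : ∀ r, W'.comap (piece G W r).ι = (Z G r.down).comap ((piece G W r).ι ≫ W.ι)

include hle in
theorem exists_isThick : ∃ W' : W.toScheme.IdealSheafData, IsThick G W' := by
  obtain ⟨K, hK⟩ := exists_glue_pieces (piece G W) (fun i j h => by
    rw [disjoint_iff]
    exact le_bot_iff.1 fun x hx =>
      ((stratum_disjoint G (r := i.down) (k := j.down) fun e => h (congrArg ULift.up e)).le_bot hx).elim)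
    (piece_cover G hle) fun r => (Z G r.down).comap ((piece G W r).ι ≫ W.ι)
  exact ⟨K, ⟨hK⟩⟩

variable {G}

namespace IsThick

variable {W' : W.toScheme.IdealSheafData} (h : IsThick G W')
include h

include hle in
theorem support_eq : W'.support = ⊤ := by
  refine SetLike.coe_injective (Set.eq_univ_of_forall fun x => ?_)
  obtain ⟨r, hr⟩ := Opens.mem_iSup.1 ((piece_cover G hle).ge (Opens.mem_top x))
  have e : (W'.comap (piece G W r).ι).support = ((Z G r.down).comap ((piece G W r).ι ≫ W.ι)).support := by rw [h.eq]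
  rw [Scheme.IdealSheafData.support_comap, Scheme.IdealSheafData.support_comap] at e
  exact ((Set.ext_iff.1 (congrArg (fun c : Closeds (piece G W r).toScheme => (c : Set (piece G W r).toScheme)) e)
    ⟨x, hr⟩).2 (interior_subset hr.1 : W.ι x ∈ (Z G r.down).support) : _)

theorem comap_piece {T : Scheme.{u}} (m : T ⟶ W.toScheme) {r : ULift.{u} ℕ} (hm : ∀ z, m z ∈ piece G W r) :
    W'.comap m = (Z G r.down).comap (m ≫ W.ι) := by
  have hran : Set.range m ⊆ Set.range (piece G W r).ι := by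
    rw [Scheme.Opens.range_ι]; rintro _ ⟨z, rfl⟩; exact hm z
  conv_lhs => rw [← IsOpenImmersion.lift_fac (piece G W r).ι m hran, Scheme.IdealSheafData.comap_comp, h.eq r]
  rw [← Scheme.IdealSheafData.comap_comp, ← Category.assoc, IsOpenImmersion.lift_fac]

include hW hle in
theorem exists_lift {T : Scheme.{u}} (a : T ⟶ G.R) (p q : T ⟶ G.U)
    (hpq : (p = a ≫ G.s ∧ q = a ≫ G.t) ∨ (p = a ≫ G.t ∧ q = a ≫ G.s))
    (n : T ⟶ W'.subscheme) (hn : n ≫ W'.subschemeι ≫ W.ι = p) :
    ∃ n' : T ⟶ W'.subscheme, n' ≫ W'.subschemeι ≫ W.ι = q := by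
  have hmem : ∀ z, p z ∈ W → q z ∈ W := by
    intro z hz
    rcases hpq with ⟨hp, hq⟩ | ⟨hp, hq⟩ <;> rw [hp, Scheme.Hom.comp_apply] at hz <;> rw [hq, Scheme.Hom.comp_apply]
    · exact hW.le hz
    · exact hW.ge hz
  have hqW : Set.range q ⊆ Set.range W.ι := by
    rw [Scheme.Opens.range_ι]
    rintro _ ⟨z, rfl⟩
    refine hmem z ?_
    rw [← hn, ← Category.assoc, Scheme.Hom.comp_apply]
    exact ((n ≫ W'.subschemeι) z).2
  let q' : T ⟶ W.toScheme := IsOpenImmersion.lift W.ι q hqW
  have hq' : q' ≫ W.ι = q := IsOpenImmersion.lift_fac _ _ _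
  have hbot : W'.comap q' = ⊥ := by
    refine ext_of_pieces (fun r : ULift.{u} ℕ => q' ⁻¹ᵁ piece G W r)
      (by rw [← Scheme.Hom.preimage_iSup, piece_cover G hle, Scheme.Hom.preimage_top]) fun r => ?_
    set T₀ := q' ⁻¹ᵁ piece G W r
    have hpiece : ∀ z : T₀.toScheme, (T₀.ι ≫ n ≫ W'.subschemeι) z ∈ piece G W r := by
      intro z
      obtain ⟨k, hk⟩ := Opens.mem_iSup.1 (hle ((T₀.ι ≫ n ≫ W'.subschemeι) z).2)
      have hq1 : q (T₀.ι z) ∈ stratum G r.down := by
        rw [← hq', Scheme.Hom.comp_apply]; exact z.2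
      have hp1 : p (T₀.ι z) = ((T₀.ι ≫ n ≫ W'.subschemeι) z).1 := by
        rw [← hn]; rfl
      have hiff : ∀ j, p (T₀.ι z) ∈ (Z G j).support ↔ q (T₀.ι z) ∈ (Z G j).support := by
        intro j
        rcases hpq with ⟨hp, hq⟩ | ⟨hp, hq⟩ <;> rw [hp, hq, Scheme.Hom.comp_apply, Scheme.Hom.comp_apply]
        · exact mem_support_iff G j _
        · exact (mem_support_iff G j _).symm
      have hkr : k = r.down := stratum_unique G hk
        (hp1 ▸ (hiff _).2 (interior_subset hq1.1)) (hp1 ▸ fun h' => hq1.2 ((hiff _).1 h'))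
      show ((T₀.ι ≫ n ≫ W'.subschemeι) z).1 ∈ stratum G r.down
      rw [← hkr]
      exact hk
    rw [← Scheme.IdealSheafData.comap_comp, h.comap_piece (T₀.ι ≫ q') (fun z => z.2),
      Category.assoc, hq', Scheme.IdealSheafData.comap_comp]
    have e : (Z G r.down).comap q = (Z G r.down).comap p := by
      rcases hpq with ⟨hp, hq⟩ | ⟨hp, hq⟩ <;>
        rw [hp, hq, Scheme.IdealSheafData.comap_comp, Scheme.IdealSheafData.comap_comp, comap_s_eq]
    rw [e, ← Scheme.IdealSheafData.comap_comp]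
    conv_lhs => rw [← hn, ← Category.assoc n, ← Category.assoc, ← h.comap_piece _ hpiece,
      Scheme.IdealSheafData.comap_comp, Scheme.IdealSheafData.comap_comp]
    have : W'.comap W'.subschemeι = ⊥ := by
      rw [← le_bot_iff, ← Scheme.IdealSheafData.le_map_iff_comap_le, Scheme.IdealSheafData.map_bot,
        Scheme.IdealSheafData.ker_subschemeι]
    rw [this, le_bot_iff.1 ((Scheme.IdealSheafData.map_gc n).l_le bot_le)]
  refine ⟨IsClosedImmersion.lift W'.subschemeι q' ?_, by rw [IsClosedImmersion.lift_fac_assoc, hq']⟩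
  rw [Scheme.IdealSheafData.ker_subschemeι, ← Scheme.IdealSheafData.map_bot (f := q'),
    Scheme.IdealSheafData.le_map_iff_comap_le, hbot]

include hW hle in
theorem exists_iso : ∃ φ : pullback G.s (W'.subschemeι ≫ W.ι) ≅ pullback G.t (W'.subschemeι ≫ W.ι),
    φ.hom ≫ pullback.fst G.t (W'.subschemeι ≫ W.ι) = pullback.fst G.s (W'.subschemeι ≫ W.ι) := by
  obtain ⟨n, hn⟩ := h.exists_lift hW hle (pullback.fst G.s (W'.subschemeι ≫ W.ι)) _ _ (Or.inl ⟨rfl, rfl⟩)
    (pullback.snd _ _) pullback.condition.symm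
  obtain ⟨m, hm⟩ := h.exists_lift hW hle (pullback.fst G.t (W'.subschemeι ≫ W.ι)) _ _ (Or.inr ⟨rfl, rfl⟩)
    (pullback.snd _ _) pullback.condition.symm
  refine ⟨⟨pullback.lift (pullback.fst _ _) n hn.symm, pullback.lift (pullback.fst _ _) m hm.symm, ?_, ?_⟩,
    pullback.lift_fst _ _ _⟩
  · rw [← cancel_mono (pullback.fst G.s (W'.subschemeι ≫ W.ι)), Category.assoc, pullback.lift_fst,
      pullback.lift_fst, Category.id_comp]
  · rw [← cancel_mono (pullback.fst G.t (W'.subschemeι ≫ W.ι)), Category.assoc, pullback.lift_fst,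
      pullback.lift_fst, Category.id_comp]

include hle in
theorem isFinLocFree {X' : Scheme.{u}} {f : X' ⟶ W'.subscheme} {g' : X' ⟶ G.R}
    (H : IsPullback g' f G.s (W'.subschemeι ≫ W.ι)) : Mor2.IsFinLocFree f := by
  haveI hf : IsFinite f := MorphismProperty.of_isPullback H inferInstance
  have hcov : ⨆ r, W'.subschemeι ⁻¹ᵁ piece G W r = ⊤ := by
    rw [← Scheme.Hom.preimage_iSup, piece_cover G hle, Scheme.Hom.preimage_top]
  have key : ∀ r, Flat (f ∣_ (W'.subschemeι ⁻¹ᵁ piece G W r)) ∧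
      LocallyOfFinitePresentation (f ∣_ (W'.subschemeι ⁻¹ᵁ piece G W r)) := by
    intro r
    set V := W'.subschemeι ⁻¹ᵁ piece G W r
    haveI : IsFinite (f ∣_ V) := IsZariskiLocalAtTarget.restrict hf V
    have H' : IsPullback ((f ⁻¹ᵁ V).ι ≫ g') (f ∣_ V) G.s (V.ι ≫ W'.subschemeι ≫ W.ι) :=
      (isPullback_morphismRestrict f V).flip.paste_horiz H
    have h0 : GrpdFit19.fit (f ∣_ V) r.down = ⊥ := by
      rw [← GrpdFit19.comap_fit G.s H', ← Category.assoc,
        ← h.comap_piece (V.ι ≫ W'.subschemeι) (fun z => z.2), Scheme.IdealSheafData.comap_comp]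
      have : W'.comap W'.subschemeι = ⊥ := by
        rw [← le_bot_iff, ← Scheme.IdealSheafData.le_map_iff_comap_le, Scheme.IdealSheafData.map_bot,
          Scheme.IdealSheafData.ker_subschemeι]
      rw [this]
      exact le_bot_iff.1 ((Scheme.IdealSheafData.map_gc _).l_le bot_le)
    have h1 : GrpdFit19.fit (f ∣_ V) (r.down + 1) = ⊤ := by
      rw [← GrpdFit19.comap_fit G.s H', ← Scheme.IdealSheafData.support_eq_bot_iff,
        Scheme.IdealSheafData.support_comap, ← SetLike.coe_set_eq, Closeds.coe_bot, Closeds.coe_preimage,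
        Set.eq_empty_iff_forall_notMem]
      intro z hz
      exact z.2.2 hz
    exact (GrpdFit19.isFinLocFreeOfDeg (f ∣_ V) h0 h1).1.2
  exact ⟨hf, IsZariskiLocalAtTarget.of_iSup_eq_top (P := @Flat) _ hcov fun r => (key r).1,
    IsZariskiLocalAtTarget.of_iSup_eq_top (P := @LocallyOfFinitePresentation) _ hcov fun r => (key r).2⟩

include hle in
theorem isFinLocFree_s : Mor2.IsFinLocFree (pullback.snd G.s (W'.subschemeι ≫ W.ι)) :=
  h.isFinLocFree hle (IsPullback.of_hasPullback _ _)

include hle in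
theorem isFinLocFree_t : Mor2.IsFinLocFree (pullback.snd G.t (W'.subschemeι ≫ W.ι)) := by
  haveI : IsIso G.i := ⟨G.i, GrpQuot.i_i G, GrpQuot.i_i G⟩
  have h1 : IsPullback G.i G.t G.s (𝟙 G.U) := IsPullback.of_horiz_isIso ⟨by rw [G.i_s, Category.comp_id]⟩
  have h2 := (IsPullback.of_hasPullback G.t (W'.subschemeι ≫ W.ι)).paste_horiz h1
  rw [Category.comp_id] at h2
  exact h.isFinLocFree hle h2

end IsThick

end Groth.Agent.GrpdThick19
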